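import Mathlib

/-!
Power series in finitely many variables: powers of the ideal of variables, completeness, surjective
endomorphisms are bijective, lifting homomorphisms.
-/

open Finsupp

namespace Groth.Agent.PSLib

universe u v

variable {n : ℕ} {R : Type u} [CommRing R]

/-- The ideal generated by the variables. -/
noncomputable def vars (n : ℕ) (R : Type u) [CommRing R] : Ideal (MvPowerSeries (Fin n) R) :=
  Ideal.span (Set.range MvPowerSeries.X)

lemma coeff_eq_zero_of_mem_pow : ∀ (N : ℕ) (f : MvPowerSeries (Fin n) R), f ∈ vars n R ^ N →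
    ∀ d, degree d < N → MvPowerSeries.coeff d f = 0 := by
  intro N
  induction N with
  | zero => intro f _ d hd; omega
  | succ N ih =>
    intro f hf
    rw [pow_succ] at hf
    refine Submodule.mul_induction_on (C := fun f => ∀ d, degree d < N + 1 →
      MvPowerSeries.coeff d f = 0) hf ?_ ?_
    · intro a ha b hb d hd
      classical
      rw [MvPowerSeries.coeff_mul]
      refine Finset.sum_eq_zero fun p hp => ?_
      rw [Finset.HasAntidiagonal.mem_antidiagonal] at hp
      by_cases h1 : degree p.1 < N
      · rw [ih a ha _ h1, zero_mul]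
      · have h2 : p.2 = 0 := by
          have h := congrArg degree hp
          rw [map_add] at h
          exact (degree_eq_zero_iff p.2).1 (by omega)
        have hb0 : MvPowerSeries.constantCoeff b = 0 := by
          have hle : vars n R ≤ RingHom.ker MvPowerSeries.constantCoeff := by
            rw [vars, Ideal.span_le]; rintro _ ⟨i, rfl⟩; simp
          exact hle hb
        rw [h2, MvPowerSeries.coeff_zero_eq_constantCoeff_apply, hb0, mul_zero]
    · intro a b ha hb d hd
      rw [map_add, ha d hd, hb d hd, add_zero]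

lemma mem_pow_of_coeff_eq_zero : ∀ (N : ℕ) (f : MvPowerSeries (Fin n) R),
    (∀ d, degree d < N → MvPowerSeries.coeff d f = 0) → f ∈ vars n R ^ N := by
  intro N
  induction N with
  | zero => simp
  | succ N ih =>
    intro f hf
    classical
    -- sort the monomials by their first variable
    let h : Fin n → MvPowerSeries (Fin n) R := fun i e =>
      if ∀ j < i, e j = 0 then MvPowerSeries.coeff (e + Finsupp.single i 1) f else 0
    have hh : ∀ i, h i ∈ vars n R ^ N := fun i => ih _ fun d hd => by
      show h i d = 0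
      simp only [h]
      split_ifs
      · exact hf _ (by rw [map_add, degree_single]; omega)
      · rfl
    have hsum : f = ∑ i, h i * MvPowerSeries.X i := by
      refine MvPowerSeries.ext fun d => ?_
      rw [map_sum]
      have hterm : ∀ i, MvPowerSeries.coeff d (h i * MvPowerSeries.X i) =
          if d i ≠ 0 ∧ ∀ j < i, d j = 0 then MvPowerSeries.coeff d f else 0 := by
        intro i
        rw [MvPowerSeries.X_def, MvPowerSeries.coeff_mul_monomial]
        by_cases hi : Finsupp.single i 1 ≤ d
        · have hsub : d - Finsupp.single i 1 + Finsupp.single i 1 = d := tsub_add_cancel_of_le hi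
          have hiff : (∀ j < i, (d - Finsupp.single i 1 : Fin n →₀ ℕ) j = 0) ↔ ∀ j < i, d j = 0 := by
            refine forall₂_congr fun j hj => ?_
            simp [hj.ne']
          have hdi : d i ≠ 0 := by
            have := hi i
            simp at this
            omega
          rw [if_pos hi, mul_one, MvPowerSeries.coeff_apply]
          simp only [h, hsub, hiff, hdi, ne_eq, not_false_iff, true_and]
        · have hdi : d i = 0 := by
            by_contra hne
            exact hi (Finsupp.single_le_iff.2 (Nat.one_le_iff_ne_zero.2 hne))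
          rw [if_neg hi, if_neg (fun hc => hc.1 hdi)]
      simp only [hterm]
      by_cases hd : d = 0
      · subst hd
        rw [Finset.sum_eq_zero fun i _ => if_neg (fun hc => hc.1 rfl)]
        exact hf 0 (by simp)
      · obtain ⟨i₀, hi₀, hmin⟩ : ∃ i, d i ≠ 0 ∧ ∀ j < i, d j = 0 := by
          have hne : (d.support).Nonempty := Finsupp.support_nonempty_iff.2 hd
          refine ⟨d.support.min' hne, Finsupp.mem_support_iff.1 (Finset.min'_mem _ hne), fun j hj => ?_⟩
          by_contra hj0
          exact absurd (Finset.min'_le _ j (Finsupp.mem_support_iff.2 hj0)) (not_le.2 hj)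
        rw [Finset.sum_eq_single i₀, if_pos ⟨hi₀, hmin⟩]
        · intro i _ hne
          refine if_neg fun hc => ?_
          rcases lt_or_gt_of_ne hne with hlt | hlt
          · exact hc.1 (hmin i hlt)
          · exact hi₀ (hc.2 i₀ hlt)
        · exact fun hc => absurd (Finset.mem_univ _) hc
    rw [hsum, pow_succ]
    exact Ideal.sum_mem _ fun i _ => Ideal.mul_mem_mul (hh i) (Ideal.subset_span ⟨i, rfl⟩)

lemma mem_pow_iff {N : ℕ} {f : MvPowerSeries (Fin n) R} :
    f ∈ vars n R ^ N ↔ ∀ d, degree d < N → MvPowerSeries.coeff d f = 0 :=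
  ⟨coeff_eq_zero_of_mem_pow N f, mem_pow_of_coeff_eq_zero N f⟩

lemma mem_vars_iff {f : MvPowerSeries (Fin n) R} :
    f ∈ vars n R ↔ MvPowerSeries.constantCoeff f = 0 := by
  rw [← pow_one (vars n R), mem_pow_iff]
  simp only [Nat.lt_one_iff, degree_eq_zero_iff, forall_eq]
  rw [MvPowerSeries.coeff_zero_eq_constantCoeff_apply]

lemma eq_zero_of_forall_mem_pow {f : MvPowerSeries (Fin n) R} (h : ∀ N, f ∈ vars n R ^ N) :
    f = 0 :=
  MvPowerSeries.ext fun d => by
    rw [map_zero]; exact mem_pow_iff.1 (h (degree d + 1)) d (Nat.lt_succ_self _)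

instance isHausdorff : IsHausdorff (vars n R) (MvPowerSeries (Fin n) R) :=
  ⟨fun f hf => eq_zero_of_forall_mem_pow fun N => by
    have := hf N
    rw [SModEq.zero, smul_eq_mul, Ideal.mul_top] at this
    exact this⟩

instance isPrecomplete : IsPrecomplete (vars n R) (MvPowerSeries (Fin n) R) := by
  refine ⟨fun a ha => ⟨fun d => MvPowerSeries.coeff d (a (degree d + 1)), fun N => ?_⟩⟩
  rw [SModEq.sub_mem, smul_eq_mul, Ideal.mul_top, mem_pow_iff]
  intro d hd
  have h1 := ha (show degree d + 1 ≤ N by omega)
  rw [SModEq.sub_mem, smul_eq_mul, Ideal.mul_top, mem_pow_iff] at h1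
  have h2 := h1 d (Nat.lt_succ_self _)
  rw [map_sub] at h2 ⊢
  rw [MvPowerSeries.coeff_apply (fun d => MvPowerSeries.coeff d (a (degree d + 1))) d]
  linear_combination -h2

instance isAdicComplete : IsAdicComplete (vars n R) (MvPowerSeries (Fin n) R) where

/-- Every series is a polynomial up to any power of the ideal of variables. -/
lemma exists_polynomial_sub_mem (f : MvPowerSeries (Fin n) R) (N : ℕ) :
    ∃ p : MvPolynomial (Fin n) R, f - (p : MvPowerSeries (Fin n) R) ∈ vars n R ^ N := by
  refine ⟨MvPowerSeries.truncTotal N f, mem_pow_iff.2 fun d hd => ?_⟩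
  rw [map_sub, MvPolynomial.coeff_coe, MvPowerSeries.coeff_truncTotal _ hd, sub_self]

variable {S : Type v} [CommRing S] [Algebra R S]

/-- Algebra maps sending the variables into `I` are continuous. -/
lemma map_pow_le (φ : MvPowerSeries (Fin n) R →ₐ[R] S) {I : Ideal S}
    (h : ∀ i, φ (MvPowerSeries.X i) ∈ I) (N : ℕ) :
    (vars n R ^ N).map φ.toRingHom ≤ I ^ N := by
  rw [Ideal.map_pow]
  refine Ideal.pow_right_mono ?_ N
  rw [vars, Ideal.map_span, Ideal.span_le]
  rintro _ ⟨_, ⟨i, rfl⟩, rfl⟩
  exact h i

/-- Algebra maps into a separated target are determined by the variables. -/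
lemma algHom_ext {I : Ideal S} [IsHausdorff I S] (φ ψ : MvPowerSeries (Fin n) R →ₐ[R] S)
    (hφ : ∀ i, φ (MvPowerSeries.X i) ∈ I)
    (h : ∀ i, φ (MvPowerSeries.X i) = ψ (MvPowerSeries.X i)) : φ = ψ := by
  refine AlgHom.ext fun f => sub_eq_zero.1 (IsHausdorff.haus ‹IsHausdorff I S› _ fun N => ?_)
  rw [SModEq.zero, smul_eq_mul, Ideal.mul_top]
  obtain ⟨p, hp⟩ := exists_polynomial_sub_mem f N
  have hpe : φ (p : MvPowerSeries (Fin n) R) = ψ p := by
    have e : φ.comp (MvPolynomial.coeToMvPowerSeries.algHom R) =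
        ψ.comp (MvPolynomial.coeToMvPowerSeries.algHom R) :=
      MvPolynomial.algHom_ext fun i => by simp [h i]
    simpa using AlgHom.congr_fun e p
  have h1 := map_pow_le φ hφ N (Ideal.mem_map_of_mem _ hp)
  have h2 := map_pow_le ψ (fun i => h i ▸ hφ i) N (Ideal.mem_map_of_mem _ hp)
  have := Ideal.sub_mem _ h1 h2
  simpa [hpe] using this

/-- A criterion for surjectivity: a complete source, the residue classes are hit, and the generators
are hit to first order. -/
theorem surjective_of_first_order {A B : Type*} [CommRing A] [CommRing B] (φ : A →+* B)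
    {I : Ideal A} [IsPrecomplete I A] {J : Ideal B} [IsHausdorff J B] (hJfg : J.FG)
    (hJjac : J ≤ Ideal.jacobson ⊥) (hIJ : I.map φ ≤ J) (hgen : J ≤ I.map φ ⊔ J ^ 2)
    (hres : ∀ b, ∃ a, b - φ a ∈ J) : Function.Surjective φ := by
  have hJ : J = I.map φ := le_antisymm (Submodule.le_of_le_smul_of_le_jacobson_bot hJfg hJjac (by
    rwa [smul_eq_mul, ← sq])) hIJ
  subst hJ
  refine surjective_of_mk_map_comp_surjective φ (I := I) fun y => ?_
  obtain ⟨b, rfl⟩ := Ideal.Quotient.mk_surjective y
  obtain ⟨a, ha⟩ := hres b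
  refine ⟨a, ?_⟩
  rw [RingHom.comp_apply, eq_comm, Ideal.Quotient.eq]
  exact ha

lemma vars_le_jacobson : vars n R ≤ Ideal.jacobson ⊥ :=
  IsAdicComplete.le_jacobson_bot _

/-- Endomorphisms that are onto to first order are bijective. -/
theorem bijective_of_first_order (φ : MvPowerSeries (Fin n) R →ₐ[R] MvPowerSeries (Fin n) R)
    (h0 : ∀ i, φ (MvPowerSeries.X i) ∈ vars n R)
    (h1 : ∀ j, MvPowerSeries.X j ∈
      Ideal.span (Set.range fun i => φ (MvPowerSeries.X i)) ⊔ vars n R ^ 2) :
    Function.Bijective φ := by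
  have hsurj : Function.Surjective φ := by
    refine surjective_of_first_order (φ : MvPowerSeries (Fin n) R →+* MvPowerSeries (Fin n) R)
      (I := vars n R) (J := vars n R) (Submodule.fg_span (Set.finite_range _)) vars_le_jacobson
      (by simpa using map_pow_le φ h0 1) ?_ (fun b => ⟨MvPowerSeries.C (MvPowerSeries.constantCoeff b), ?_⟩)
    · refine Ideal.span_le.2 (Set.range_subset_iff.2 fun j => ?_)
      refine (sup_le_sup ?_ le_rfl : Ideal.span (Set.range fun i => φ (MvPowerSeries.X i)) ⊔
        vars n R ^ 2 ≤ _) (h1 j)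
      rw [Ideal.span_le]
      rintro _ ⟨i, rfl⟩
      exact Ideal.mem_map_of_mem (φ : MvPowerSeries (Fin n) R →+* MvPowerSeries (Fin n) R)
        (Ideal.subset_span ⟨i, rfl⟩)
    · have e : φ (MvPowerSeries.C (MvPowerSeries.constantCoeff b)) =
          MvPowerSeries.C (MvPowerSeries.constantCoeff b) := φ.commutes _
      show b - φ _ ∈ vars n R
      rw [e, mem_vars_iff]
      simp
  classical
  refine ⟨(injective_iff_map_eq_zero φ).2 fun f hf => eq_zero_of_forall_mem_pow fun N => ?_, hsurj⟩
  -- modulo each power this is a surjective endomorphism of a finite module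
  let π : MvPolynomial (Fin n) R →ₗ[R] MvPowerSeries (Fin n) R ⧸ (vars n R ^ N) :=
    (Ideal.Quotient.mkₐ R (vars n R ^ N)).toLinearMap ∘ₗ
      (MvPolynomial.coeToMvPowerSeries.algHom R).toLinearMap
  have hfin : Module.Finite R (MvPowerSeries (Fin n) R ⧸ (vars n R ^ N)) := by
    refine ⟨⟨((Finsupp.finite_of_degree_lt N).toFinset.image fun d =>
      π (MvPolynomial.monomial d 1)), eq_top_iff.2 fun x _ => ?_⟩⟩
    obtain ⟨g, rfl⟩ := Ideal.Quotient.mk_surjective x
    have hg : Ideal.Quotient.mk (vars n R ^ N) g = π (MvPowerSeries.truncTotal N g) := by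
      show _ = Ideal.Quotient.mk (vars n R ^ N)
        ((MvPowerSeries.truncTotal N g : MvPolynomial (Fin n) R) : MvPowerSeries (Fin n) R)
      rw [Ideal.Quotient.eq]
      exact mem_pow_iff.2 fun d hd => by simp [MvPowerSeries.coeff_truncTotal _ hd]
    rw [hg, MvPolynomial.as_sum (MvPowerSeries.truncTotal N g), map_sum]
    refine Submodule.sum_mem _ fun d hd => ?_
    rw [show MvPolynomial.monomial d ((MvPowerSeries.truncTotal N g).coeff d) =
      (MvPowerSeries.truncTotal N g).coeff d • MvPolynomial.monomial d (1 : R) by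
        rw [MvPolynomial.smul_monomial, smul_eq_mul, mul_one], map_smul]
    refine Submodule.smul_mem _ _ (Submodule.subset_span ?_)
    simp only [Finset.coe_image, Set.mem_image, Set.Finite.coe_toFinset]
    refine ⟨d, ?_, rfl⟩
    by_contra hd'
    rw [MvPolynomial.mem_support_iff, MvPowerSeries.coeff_truncTotal_eq_ite,
      if_neg (by simpa using hd')] at hd
    exact hd rfl
  have hle : vars n R ^ N ≤ (vars n R ^ N).comap φ.toRingHom :=
    Ideal.map_le_iff_le_comap.1 (map_pow_le φ h0 N)
  let E : (MvPowerSeries (Fin n) R ⧸ (vars n R ^ N)) →ₐ[R]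
      MvPowerSeries (Fin n) R ⧸ (vars n R ^ N) :=
    Ideal.quotientMapₐ _ φ hle
  have hE : Function.Surjective E.toLinearMap := by
    intro x
    obtain ⟨g, rfl⟩ := Ideal.Quotient.mk_surjective x
    obtain ⟨g', rfl⟩ := hsurj g
    exact ⟨Ideal.Quotient.mk _ g', rfl⟩
  have := (OrzechProperty.bijective_of_surjective_endomorphism E.toLinearMap hE).1
  rw [← Ideal.Quotient.eq_zero_iff_mem]
  apply this
  show Ideal.Quotient.mk (vars n R ^ N) (φ f) = E 0
  rw [hf, map_zero, map_zero]

/-- A homomorphism out of power series with prescribed values in the ideal of a complete ring. -/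
theorem exists_algHom {A : Type v} [CommRing A] [Algebra R A] (I : Ideal A) [IsAdicComplete I A]
    (b : Fin n → A) (hb : ∀ i, b i ∈ I) :
    ∃ ψ : MvPowerSeries (Fin n) R →ₐ[R] A, ∀ i, ψ (MvPowerSeries.X i) = b i := by
  let g : ∀ N : ℕ, (MvPolynomial (Fin n) R ⧸ (MvPolynomial.idealOfVars (Fin n) R) ^ N) →ₐ[R]
      A ⧸ I ^ N := fun N =>
    Ideal.quotientMapₐ _ (MvPolynomial.aeval b) (by
      rw [← Ideal.map_le_iff_le_comap, Ideal.map_pow]
      refine Ideal.pow_right_mono ?_ N
      rw [MvPolynomial.idealOfVars, Ideal.map_span, Ideal.span_le]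
      rintro _ ⟨_, ⟨i, rfl⟩, rfl⟩
      simpa using hb i)
  let f : ∀ N : ℕ, MvPowerSeries (Fin n) R →ₐ[R] A ⧸ I ^ N := fun N =>
    (g N).comp ((MvPowerSeries.truncTotalAlgHom (Fin n) R N).restrictScalars R)
  refine ⟨IsAdicComplete.liftAlgHom I f (fun {m k} hmk => AlgHom.ext fun p => ?_), fun i => ?_⟩
  · simp only [f, g, AlgHom.coe_comp, Function.comp_apply, AlgHom.restrictScalars_apply]
    show Ideal.Quotient.mk (I ^ m) (MvPolynomial.aeval b (MvPowerSeries.truncTotal k p)) =
      Ideal.Quotient.mk (I ^ m) (MvPolynomial.aeval b (MvPowerSeries.truncTotal m p))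
    rw [Ideal.Quotient.eq, ← map_sub]
    have h1 := MvPowerSeries.truncTotal_sub_truncTotal_mem_pow_idealOfVars hmk le_rfl p
    have h2 : (MvPolynomial.idealOfVars (Fin n) R ^ m).map (MvPolynomial.aeval b).toRingHom ≤ I ^ m := by
      rw [Ideal.map_pow]
      refine Ideal.pow_right_mono ?_ m
      rw [MvPolynomial.idealOfVars, Ideal.map_span, Ideal.span_le]
      rintro _ ⟨_, ⟨i, rfl⟩, rfl⟩
      simpa using hb i
    exact h2 (Ideal.mem_map_of_mem _ h1)
  · refine sub_eq_zero.1 (IsHausdorff.haus (I := I) (M := A) inferInstance _ fun N => ?_)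
    rw [SModEq.zero, smul_eq_mul, Ideal.mul_top, ← Ideal.Quotient.eq, IsAdicComplete.mk_liftAlgHom]
    show Ideal.Quotient.mk (I ^ N)
      (MvPolynomial.aeval b (MvPowerSeries.truncTotal N (MvPowerSeries.X i : MvPowerSeries (Fin n) R))) = _
    rw [Ideal.Quotient.eq]
    rcases Nat.lt_or_ge 1 N with hN | hN
    · have e : MvPowerSeries.truncTotal N (MvPowerSeries.X i : MvPowerSeries (Fin n) R) =
          MvPolynomial.X i := by
        refine MvPolynomial.ext _ _ fun d => ?_
        rw [MvPowerSeries.coeff_truncTotal_eq_ite]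
        classical
        rw [MvPowerSeries.coeff_X, MvPolynomial.coeff_X]
        by_cases hd : d = Finsupp.single i 1
        · subst hd; simp [hN]
        · rw [if_neg hd, if_neg (Ne.symm hd)]; simp
      simp [e]
    · have h1 : MvPolynomial.aeval b
          (MvPowerSeries.truncTotal N (MvPowerSeries.X i : MvPowerSeries (Fin n) R)) ∈ I := by
        rcases Nat.eq_zero_or_pos N with rfl | hN0
        · have e : MvPowerSeries.truncTotal 0 (MvPowerSeries.X i : MvPowerSeries (Fin n) R) = 0 :=
            MvPolynomial.ext _ _ fun d => by rw [MvPowerSeries.coeff_truncTotal_eq_ite]; simp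
          simp [e]
        · obtain rfl : N = 1 := by omega
          have e : MvPowerSeries.truncTotal 1 (MvPowerSeries.X i : MvPowerSeries (Fin n) R) = 0 :=
            MvPolynomial.ext _ _ fun d => by
              classical
              rw [MvPowerSeries.coeff_truncTotal_eq_ite, MvPowerSeries.coeff_X, MvPolynomial.coeff_zero]
              split_ifs with h h' <;> simp_all
          simp [e]
      have h2 : I ^ N ≥ I := by
        calc I = I ^ 1 := (pow_one I).symm
          _ ≤ I ^ N := Ideal.pow_le_pow_right hN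
      exact h2 (I.sub_mem h1 (hb i))

/-- Substitution as an algebra map: agreement on variables. -/
lemma subst_eq {y : Fin n → MvPowerSeries (Fin n) R} (hy : ∀ i, y i ∈ vars n R)
    (φ : MvPowerSeries (Fin n) R →ₐ[R] MvPowerSeries (Fin n) R)
    (h : ∀ i, φ (MvPowerSeries.X i) = y i) :
    ⇑φ = MvPowerSeries.subst y := by
  have hs : MvPowerSeries.HasSubst y :=
    MvPowerSeries.hasSubst_of_constantCoeff_zero fun i => mem_vars_iff.1 (hy i)
  rw [← MvPowerSeries.coe_substAlgHom hs]
  exact congrArg DFunLike.coe (algHom_ext (I := vars n R) φ (MvPowerSeries.substAlgHom hs)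
    (fun i => h i ▸ hy i) fun i => by rw [h i, MvPowerSeries.substAlgHom_X hs])

end Groth.Agent.PSLib
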