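import Groth.Agent.PSLib.Basic

/-!
Power series over a field: regular local of dimension the number of variables.
-/

namespace Groth.Agent.PSLib

universe u v

variable (K : Type u) [Field K] (n : ℕ)

lemma maximalIdeal_eq_vars :
    IsLocalRing.maximalIdeal (MvPowerSeries (Fin n) K) = vars n K := by
  ext f
  rw [IsLocalRing.mem_maximalIdeal, mem_nonunits_iff, MvPowerSeries.isUnit_iff_constantCoeff,
    isUnit_iff_ne_zero, not_ne_iff, mem_vars_iff]

/-- Killing the variables from `t` on. -/
noncomputable def killFrom (t : ℕ) :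
    MvPowerSeries (Fin n) K →ₐ[K] MvPowerSeries (Fin n) K :=
  MvPowerSeries.substAlgHom (a := fun i : Fin n => if (i : ℕ) < t then MvPowerSeries.X i else 0)
    (MvPowerSeries.hasSubst_of_constantCoeff_zero fun i => by split_ifs <;> simp)

lemma killFrom_X (t : ℕ) (i : Fin n) :
    killFrom K n t (MvPowerSeries.X i) = if (i : ℕ) < t then MvPowerSeries.X i else 0 :=
  MvPowerSeries.substAlgHom_X _ i

lemma killFrom_X_mem (t : ℕ) (i : Fin n) : killFrom K n t (MvPowerSeries.X i) ∈ vars n K := by
  rw [killFrom_X, mem_vars_iff]; split_ifs <;> simp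

lemma natCast_le_ringKrullDim : (n : WithBot ℕ∞) ≤ ringKrullDim (MvPowerSeries (Fin n) K) := by
  classical
  let P := MvPowerSeries (Fin n) K
  have hle : ∀ t, RingHom.ker (killFrom K n (t + 1)) ≤ RingHom.ker (killFrom K n t) := by
    intro t f hf
    have e : killFrom K n t = (killFrom K n t).comp (killFrom K n (t + 1)) := by
      refine algHom_ext (I := vars n K) _ _ (killFrom_X_mem K n t) fun i => ?_
      rw [AlgHom.comp_apply, killFrom_X, killFrom_X K n (t + 1)]
      by_cases h : (i : ℕ) < t
      · rw [if_pos h, if_pos (Nat.lt_succ_of_lt h), killFrom_X, if_pos h]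
      · rw [if_neg h]
        by_cases h' : (i : ℕ) < t + 1
        · rw [if_pos h', killFrom_X, if_neg h]
        · rw [if_neg h', map_zero]
    rw [RingHom.mem_ker] at hf ⊢
    rw [e, AlgHom.comp_apply, hf, map_zero]
  have hlt : ∀ t, t < n → RingHom.ker (killFrom K n (t + 1)) < RingHom.ker (killFrom K n t) := by
    intro t ht
    refine lt_of_le_of_ne (hle t) fun heq => ?_
    have h1 : (MvPowerSeries.X ⟨t, ht⟩ : P) ∈ RingHom.ker (killFrom K n t) := by
      rw [RingHom.mem_ker, killFrom_X]; simp
    rw [← heq, RingHom.mem_ker, killFrom_X, if_pos (Nat.lt_succ_self t)] at h1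
    have := congrArg (MvPowerSeries.coeff (Finsupp.single ⟨t, ht⟩ 1)) h1
    simp [MvPowerSeries.coeff_X] at this
  have : IsDomain P := NoZeroDivisors.to_isDomain P
  have hdom : ∀ t, (RingHom.ker (killFrom K n t)).IsPrime := fun t => RingHom.ker_isPrime _
  let ser : LTSeries (PrimeSpectrum P) :=
    { length := n
      toFun := fun i => ⟨RingHom.ker (killFrom K n (n - (i : ℕ))), hdom _⟩
      step := fun i => by
        show RingHom.ker (killFrom K n (n - (i.castSucc : ℕ))) <
          RingHom.ker (killFrom K n (n - (i.succ : ℕ)))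
        rw [show n - (i.castSucc : ℕ) = n - (i.succ : ℕ) + 1 by
          simp only [Fin.val_castSucc, Fin.val_succ]; omega]
        exact hlt _ (by simp only [Fin.val_succ]; omega) }
  exact Order.LTSeries.length_le_krullDim ser

lemma spanFinrank_le : (IsLocalRing.maximalIdeal (MvPowerSeries (Fin n) K)).spanFinrank ≤ n := by
  rw [maximalIdeal_eq_vars, vars]
  refine (Submodule.spanFinrank_span_le_ncard_of_finite (Set.finite_range _)).trans ?_
  rw [← Set.image_univ]
  refine (Set.ncard_image_le Set.finite_univ).trans ?_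
  simp

theorem ringKrullDim_eq : ringKrullDim (MvPowerSeries (Fin n) K) = n :=
  le_antisymm ((ringKrullDim_le_spanFinrank_maximalIdeal _).trans
    (by exact_mod_cast spanFinrank_le K n)) (natCast_le_ringKrullDim K n)

theorem isRegularLocalRing : IsRegularLocalRing (MvPowerSeries (Fin n) K) :=
  IsRegularLocalRing.of_spanFinrank_maximalIdeal_le _ (by
    rw [ringKrullDim_eq]
    exact_mod_cast spanFinrank_le K n)

/-- A surjection from power series onto a ring of the same dimension is bijective. -/
theorem bijective_of_surjective {R : Type v} [CommRing R] (ψ : MvPowerSeries (Fin n) K →+* R)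
    (hψ : Function.Surjective ψ) (hdim : ringKrullDim R = n) : Function.Bijective ψ := by
  refine ⟨?_, hψ⟩
  rw [injective_iff_map_eq_zero]
  intro x hx
  by_contra hx0
  have hunit : x ∈ IsLocalRing.maximalIdeal (MvPowerSeries (Fin n) K) := by
    rw [IsLocalRing.mem_maximalIdeal, mem_nonunits_iff]
    intro hu
    have h0 : IsUnit (0 : R) := hx ▸ hu.map ψ
    have := isUnit_zero_iff.1 h0
    have : Subsingleton R := subsingleton_of_zero_eq_one this
    rw [ringKrullDim_eq_bot_of_subsingleton] at hdim
    exact absurd hdim (by simp)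
  have hreg : IsSMulRegular (MvPowerSeries (Fin n) K) x := fun a b h => mul_left_cancel₀ hx0 h
  have h1 := ringKrullDim_quotient_span_singleton_succ_eq_ringKrullDim hreg hunit
  rw [ringKrullDim_eq] at h1
  let f : MvPowerSeries (Fin n) K ⧸ Ideal.span {x} →+* R :=
    Ideal.Quotient.lift _ ψ fun a ha => by
      obtain ⟨c, rfl⟩ := Ideal.mem_span_singleton.1 ha
      rw [map_mul, hx, zero_mul]
  have hf : Function.Surjective f := Ideal.Quotient.lift_surjective_of_surjective _ _ hψ
  have h2 := ringKrullDim_le_of_surjective f hf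
  rw [hdim] at h2
  have h3 : (n : WithBot ℕ∞) + 1 ≤ n := by
    calc (n : WithBot ℕ∞) + 1 ≤ ringKrullDim (MvPowerSeries (Fin n) K ⧸ Ideal.span {x}) + 1 := add_le_add h2 le_rfl
      _ = n := h1
  rw [show ((n : WithBot ℕ∞) + 1) = ((n + 1 : ℕ) : WithBot ℕ∞) by push_cast; rfl, Nat.cast_le] at h3
  omega

variable {K n}

/-- Onto a complete local ring, from first order data. -/
theorem surjective_of_span {R : Type v} [CommRing R] [IsLocalRing R] [IsNoetherianRing R]
    [Algebra K R] [IsAdicComplete (IsLocalRing.maximalIdeal R) R]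
    (hR : Function.Surjective ((IsLocalRing.residue R).comp (algebraMap K R)))
    (ψ : MvPowerSeries (Fin n) K →ₐ[K] R)
    (hψ : ∀ i, ψ (MvPowerSeries.X i) ∈ IsLocalRing.maximalIdeal R)
    (hgen : IsLocalRing.maximalIdeal R ≤
      Ideal.span (Set.range fun i => ψ (MvPowerSeries.X i)) ⊔ IsLocalRing.maximalIdeal R ^ 2) :
    Function.Surjective ψ := by
  refine surjective_of_first_order (ψ : MvPowerSeries (Fin n) K →+* R) (I := vars n K)
    (J := IsLocalRing.maximalIdeal R) (IsNoetherian.noetherian _)
    (IsAdicComplete.le_jacobson_bot _) (by simpa using map_pow_le ψ hψ 1) ?_ fun b => ?_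
  · refine hgen.trans (sup_le_sup ?_ le_rfl)
    rw [Ideal.span_le]
    rintro _ ⟨i, rfl⟩
    exact Ideal.mem_map_of_mem (ψ : MvPowerSeries (Fin n) K →+* R) (Ideal.subset_span ⟨i, rfl⟩)
  · obtain ⟨c, hc⟩ := hR (IsLocalRing.residue R b)
    refine ⟨algebraMap K _ c, ?_⟩
    rw [← Ideal.Quotient.eq]
    show IsLocalRing.residue R b = IsLocalRing.residue R (ψ (algebraMap K _ c))
    rw [ψ.commutes, ← hc]
    rfl

/-- From a spanning family of the cotangent space. -/
theorem le_span_sup_sq {R : Type v} [CommRing R] [IsLocalRing R] {b : Fin n → R}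
    (hb : ∀ i, b i ∈ IsLocalRing.maximalIdeal R)
    (hsp : Submodule.span (IsLocalRing.ResidueField R)
      (Set.range fun i : Fin n => (IsLocalRing.maximalIdeal R).toCotangent ⟨b i, hb i⟩) = ⊤) :
    IsLocalRing.maximalIdeal R ≤ Ideal.span (Set.range b) ⊔ IsLocalRing.maximalIdeal R ^ 2 := by
  intro x hx
  obtain ⟨c, hc⟩ := (Submodule.mem_span_range_iff_exists_fun _).1
    (hsp ▸ Submodule.mem_top : (IsLocalRing.maximalIdeal R).toCotangent ⟨x, hx⟩ ∈ _)
  choose c' hc' using fun i => IsLocalRing.residue_surjective (c i)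
  have h1 : (IsLocalRing.maximalIdeal R).toCotangent ⟨x, hx⟩ =
      (IsLocalRing.maximalIdeal R).toCotangent
        (∑ i, c' i • (⟨b i, hb i⟩ : IsLocalRing.maximalIdeal R)) := by
    rw [map_sum, ← hc]
    exact Finset.sum_congr rfl fun i _ => by rw [map_smul, ← hc' i]; rfl
  rw [Ideal.toCotangent_eq] at h1
  refine Submodule.mem_sup.2 ⟨∑ i, c' i * b i,
    Ideal.sum_mem _ fun i _ => Ideal.mul_mem_left _ _ (Ideal.subset_span ⟨i, rfl⟩),
    x - ∑ i, c' i * b i, ?_, by abel⟩
  simpa using h1

end Groth.Agent.PSLib
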